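import Cfsg.Agent.FTDown.InvariantMaximal
import Cfsg.Agent.Fusion92.StrongInner
import Cfsg.Agent.PLocalB.CharPStable
import Cfsg.Agent.S2756
import Cfsg.Agent.PF14.Compose

/-!
Coprime action in which the invariant proper subgroups of order divisible by a given prime are
nilpotent: the group is solvable.
-/

set_option autoImplicit false
set_option linter.style.haveILetI false

namespace Cfsg.Agent.MaxInv10

open Cfsg Subgroup FTDown

universe u v

variable {A : Type v} [Group A] [Finite A]

/-- An invariant nontrivial `r`-subgroup is not normal when the `r`-core is trivial. -/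
theorem normalizer_ne_top {K : Type u} [Group K] [Finite K] {r : ℕ} [Fact r.Prime]
    (h : Cfsg.pCore r K = ⊥) {Z : Subgroup K} (hZ : IsPGroup r ↥Z) (hne : Z ≠ ⊥) :
    normalizer (Z : Set K) ≠ ⊤ := fun hN =>
  hne (le_bot_iff.1 (h ▸ Thompson.le_pCore (normalizer_eq_top_iff.1 hN) hZ))

/-- A subgroup's normalizer normalizes the canonical image, for a construction commuting with
automorphisms. -/
theorem le_normalizer_of_map {K : Type u} [Group K] [Finite K] (F : Subgroup K → Subgroup K)
    (hF : ∀ (e : MulAut K) (H : Subgroup K), (F H).map e.toMonoidHom = F (H.map e.toMonoidHom))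
    (H : Subgroup K) : normalizer (H : Set K) ≤ normalizer (F H : Set K) := by
  intro x hx
  rw [mem_normalizer_iff_map_conj_eq] at hx ⊢
  exact (hF (MulAut.conj x) H).trans (congrArg F hx)

theorem isSolvable_aux : ∀ (n : ℕ) (K : Type u) [Group K] [Finite K] (φ : A →* MulAut K) (p : ℕ),
    Nat.card K = n → (Nat.card A).Coprime (Nat.card K) → p.Prime → p ∣ Nat.card K →
    (∀ H : Subgroup K, H ≠ ⊤ → Inv φ H → p ∣ Nat.card H → Group.IsNilpotent H) →
    Group.IsSolvable K := by
  intro n
  induction n using Nat.strong_induction_on with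
  | _ n ih =>
    intro K _ _ φ p hn hcop hp hpK hyp
    haveI := Fact.mk hp
    by_cases hex : ∃ r : ℕ, ∃ _ : Fact r.Prime, Cfsg.pCore r K ≠ ⊥
    · obtain ⟨r, _, hne⟩ := hex
      set N := Cfsg.pCore r K with hNdef
      haveI : N.Characteristic := by rw [hNdef]; infer_instance
      haveI : Group.IsNilpotent N := (Thompson.isPGroup_pCore (p := r) (G := K)).isNilpotent
      have hNinv : Inv φ N := fun a x hx =>
        (characteristic_iff_le_comap.1 inferInstance (φ a)) hx
      let ψ : A →* MulAut (K ⧸ N) := MonoidHom.mk'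
        (fun a => QuotientGroup.congr N N (φ a) (hNinv.map_eq a))
        fun a b => MulEquiv.ext fun x => by
          obtain ⟨y, rfl⟩ := QuotientGroup.mk'_surjective N x
          show QuotientGroup.mk' N (φ (a * b) y) = QuotientGroup.mk' N (φ a (φ b y))
          rw [map_mul, MulAut.mul_apply]
      haveI : Group.IsSolvable (K ⧸ N) := by
        rcases eq_or_ne (Nat.card (K ⧸ N)) 1 with h1 | h1
        · haveI := (Nat.card_eq_one_iff_unique.1 h1).1
          exact Group.isSolvable_of_comm fun a b => Subsingleton.elim _ _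
        obtain ⟨p', hp', hp'K, hp'H⟩ : ∃ p' : ℕ, p'.Prime ∧ p' ∣ Nat.card (K ⧸ N) ∧
            ∀ H : Subgroup K, N ≤ H → p' ∣ Nat.card (H.map (QuotientGroup.mk' N)) →
              p ∣ Nat.card H := by
          by_cases hd : p ∣ Nat.card (K ⧸ N)
          · exact ⟨p, hp, hd, fun H _ h => h.trans (card_map_dvd _ _)⟩
          · obtain ⟨p', hp', hd'⟩ := Nat.exists_prime_and_dvd h1
            refine ⟨p', hp', hd', fun H hNH _ => ?_⟩
            rw [card_eq_card_quotient_mul_card_subgroup N] at hpK
            exact ((hp.dvd_mul.1 hpK).resolve_left hd).trans (card_dvd_of_le hNH)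
        refine ih _ ?_ (K ⧸ N) ψ p' rfl (hcop.coprime_dvd_right (card_quotient_dvd_card N)) hp' hp'K ?_
        · rw [← hn, card_eq_card_quotient_mul_card_subgroup N]
          exact lt_mul_right Nat.card_pos ((one_lt_card_iff_ne_bot N).2 hne)
        · intro H hH hinv hd
          have hmap := map_comap_eq_self_of_surjective (QuotientGroup.mk'_surjective N) H
          have hle : N ≤ H.comap (QuotientGroup.mk' N) := fun x hx => by
            rw [mem_comap, QuotientGroup.mk'_apply, (QuotientGroup.eq_one_iff x).2 hx]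
            exact one_mem H
          haveI := hyp (H.comap (QuotientGroup.mk' N))
            (fun h => hH (by
              rw [← hmap, h, map_top_of_surjective _ (QuotientGroup.mk'_surjective N)]))
            (fun a x hx => hinv a _ hx)
            (hp'H _ hle (by rwa [hmap]))
          exact Group.nilpotent_of_surjective ((QuotientGroup.mk' N).subgroupComap H)
            (MonoidHom.subgroupComap_surjective_of_surjective _ _ (QuotientGroup.mk'_surjective N))
      exact Group.isSolvable_of_ker_le_range N.subtype (QuotientGroup.mk' N)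
        (by rw [QuotientGroup.ker_mk', range_subtype])
    push Not at hex
    have hcore : ∀ r : ℕ, r.Prime → Cfsg.pCore r K = ⊥ := fun r hr => hex r ⟨hr⟩
    replace hex : ∀ r : ℕ, r.Prime → ∀ P : Sylow r K, r ∣ Nat.card K →
        ¬ (P : Subgroup K).Normal := by
      intro r hr P hd hPn
      haveI := Fact.mk hr
      refine normalizer_ne_top (hex r ⟨hr⟩) P.2 (fun h => ?_) (normalizer_eq_top_iff.2 hPn)
      have := P.dvd_card_of_dvd_card hd
      rw [h, card_bot] at this
      exact hr.not_dvd_one this
    have hsolv := solvable_or PF14.feitThompson PF14.feitThompson hcop (K := K) (A := A)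
    by_cases hp2 : p = 2
    · subst hp2
      exfalso
      refine hex 2 hp default hpK (S2756.normal_of_no_inversion ?_ default)
      intro q hq hq2 T x hx hx1 g hg hgx
      obtain ⟨T₀, hT₀⟩ := Coprime.exists_invariant_sylow_hom φ hcop hsolv q
      obtain ⟨c, hc⟩ := MulAction.exists_smul_eq K T₀ T
      have hT : (T : Subgroup K) = (T₀ : Subgroup K).map (MulAut.conj c).toMonoidHom := by
        rw [← hc, Sylow.coe_subgroup_smul]; rfl
      set Z := centerThompsonAOf (T₀ : Subgroup K) with hZ
      have hF : ∀ (e : MulAut K) (H : Subgroup K),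
          (centerThompsonAOf H).map e.toMonoidHom = centerThompsonAOf (H.map e.toMonoidHom) :=
        fun e H => Fusion92.centerThompsonAOf_map_inj _ e.injective H
      have hZT : Z ≤ (T₀ : Subgroup K) := PLocalB.centerThompsonAOf_le _
      have hT₀N : (T₀ : Subgroup K) ≤ normalizer (Z : Set K) :=
        le_normalizer.trans (le_normalizer_of_map _ hF _)
      obtain ⟨x₀, hx₀, rfl⟩ : ∃ x₀ ∈ (T₀ : Subgroup K), c * x₀ * c⁻¹ = x := by
        rw [hT] at hx; exact hx
      have hZne : Z ≠ ⊥ := PLocalB.centerThompsonAOf_ne_bot T₀.2 fun h => hx1 (by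
        rw [h, mem_bot] at hx₀; rw [hx₀]; group)
      have hZinv : Inv φ Z := by
        intro a y hy
        have h := hF (φ a) (T₀ : Subgroup K)
        rw [(show Inv φ (T₀ : Subgroup K) from hT₀).map_eq a] at h
        exact h.le ⟨y, hy, rfl⟩
      have hN := normalizer_ne_top (hcore q hq.out) (T₀.2.to_le hZT) hZne
      have hP : ∀ P : Sylow 2 ↥(normalizer (Z : Set K)),
          (P : Subgroup ↥(normalizer (Z : Set K))).Normal := by
        intro P
        by_cases h2 : 2 ∣ Nat.card ↥(normalizer (Z : Set K))
        · exact (Group.isNilpotent_of_finite_tfae.out 0 3 rfl rfl).mp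
            (hyp _ hN (inv_normalizer hZinv) h2) 2 ⟨hp⟩ P
        · obtain ⟨k, hk⟩ := IsPGroup.iff_card.1 P.2
          have hd := card_subgroup_dvd_card (P : Subgroup ↥(normalizer (Z : Set K)))
          rw [hk] at hd
          rcases k with _ | k
          · rw [eq_bot_of_card_eq _ hk]; infer_instance
          · exact absurd ((dvd_pow_self 2 k.succ_ne_zero).trans hd) h2
      have hg₀ : c⁻¹ * g * c ∈ normalizer (Z : Set K) := by
        rw [hT, ← hF, ← map_equiv_normalizer_eq] at hg
        obtain ⟨g₀, hg₀, rfl⟩ := hg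
        simpa [mul_assoc] using hg₀
      have hodd : Odd (orderOf x₀) := by
        obtain ⟨k, hk⟩ := IsPGroup.iff_orderOf.1 T₀.2 ⟨x₀, hx₀⟩
        rw [Subgroup.orderOf_mk] at hk
        rw [hk]
        exact (hq.out.odd_of_ne_two hq2).pow
      have h1 : (⟨x₀, hT₀N hx₀⟩ : ↥(normalizer (Z : Set K))) = 1 :=
        S2756.no_inversion hP (g := ⟨_, hg₀⟩) (by rw [Subgroup.orderOf_mk]; exact hodd)
          (Subtype.ext (by
            show c⁻¹ * g * c * x₀ * (c⁻¹ * g * c)⁻¹ = x₀⁻¹
            calc c⁻¹ * g * c * x₀ * (c⁻¹ * g * c)⁻¹ = c⁻¹ * (g * (c * x₀ * c⁻¹) * g⁻¹) * c := by group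
              _ = x₀⁻¹ := by rw [hgx]; group))
      exact hx1 (by rw [show x₀ = 1 from congrArg Subtype.val h1]; group)
    -- the odd prime
    obtain ⟨R, hR⟩ := Coprime.exists_invariant_sylow_hom φ hcop hsolv p
    have hRne : (R : Subgroup K) ≠ ⊥ := fun h => by
      have := R.dvd_card_of_dvd_card hpK
      rw [h, card_bot] at this
      exact hp.not_dvd_one this
    set Z := centerThompsonOf p (R : Subgroup K) with hZ
    have hF : ∀ (e : MulAut K) (H : Subgroup K),
        (centerThompsonOf p H).map e.toMonoidHom = centerThompsonOf p (H.map e.toMonoidHom) :=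
      fun e H => PComplement.centerThompsonOf_map (p := p) e.toMonoidHom H
        fun _ _ _ _ h => e.injective h
    have hZR : Z ≤ R := fun x hx => Thompson.thompsonSubgroupOf_le _ hx.1
    have hZinv : Inv φ Z := by
      intro a x hx
      have h := hF (φ a) (R : Subgroup K)
      rw [(show Inv φ (R : Subgroup K) from hR).map_eq a] at h
      exact h.le ⟨x, hx, rfl⟩
    have hRN : (R : Subgroup K) ≤ normalizer (Z : Set K) :=
      le_normalizer.trans (le_normalizer_of_map _ hF _)
    have hnil := hyp _ (normalizer_ne_top (hcore p hp) (R.2.to_le hZR)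
      (PComplement.centerThompsonOf_ne_bot R.2 hRne)) (inv_normalizer hZinv)
      ((R.dvd_card_of_dvd_card hpK).trans (card_dvd_of_le hRN))
    obtain ⟨P', C, hC, hCP⟩ := PComplement.glauberman_thompson hp2 R
      (Frobenius.hasNormalPComplement_of_isNilpotent hnil p)
    haveI := hC
    exfalso
    refine hex p hp P' hpK (normalizer_eq_top_iff.1 (index_eq_one.1 ?_))
    by_contra hne
    obtain ⟨q, hq, hqd⟩ := Nat.exists_prime_and_dvd hne
    haveI := Fact.mk hq
    rcases eq_or_ne q p with rfl | hqp
    · exact P'.not_dvd_index (hqd.trans (index_dvd_of_le le_normalizer))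
    obtain ⟨Q, hQ⟩ := Coprime.exists_invariant_sylow_hom φ hcop hsolv q
    have hqK : q ∣ Nat.card K := hqd.trans (index_dvd_card _)
    have hQne : (Q : Subgroup K) ≠ ⊥ := fun h => by
      have := Q.dvd_card_of_dvd_card hqK
      rw [h, card_bot] at this
      exact hq.not_dvd_one this
    set N := normalizer ((Q : Subgroup K) : Set K) with hNdef
    obtain ⟨m, hm⟩ := IsPGroup.iff_card.1 P'.2
    have hQC : (Q : Subgroup K) ≤ C := by
      intro x hx
      obtain ⟨j, hj⟩ := IsPGroup.iff_orderOf.1 Q.2 ⟨x, hx⟩
      rw [Subgroup.orderOf_mk] at hj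
      rw [← QuotientGroup.eq_one_iff, ← orderOf_eq_one_iff]
      refine Nat.eq_one_of_dvd_coprimes (((Nat.coprime_primes hq hp).2 hqp).pow j m) ?_ ?_
      · exact (orderOf_map_dvd (QuotientGroup.mk' C) x).trans hj.dvd
      · rw [← hm, ← hCP.symm.index_eq_card, index_eq_card]
        exact orderOf_dvd_natCard _
    -- the Frattini argument gives a full Sylow subgroup for `p` in `N`
    have hCN : N ⊔ C = ⊤ := by
      have h := (Q.subtype hQC).normalizer_sup_eq_top
      rw [Sylow.coe_subtype, subgroupOf_map_subtype, inf_eq_left.2 hQC] at h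
      exact h
    obtain ⟨P₁⟩ := (inferInstance : Nonempty (Sylow p ↥N))
    have hdvd : p ^ m ∣ Nat.card ↥N := by
      have h := relIndex_sup_right N C
      rw [hCN, relIndex_top_right, hCP.symm.index_eq_card, hm] at h
      rw [h]
      exact relIndex_dvd_card C N
    have hP₁ : p ^ m ∣ Nat.card ↥(P₁ : Subgroup ↥N) :=
      P₁.pow_dvd_card_of_pow_dvd_card hdvd
    have hcardP₁ : Nat.card ↥((P₁ : Subgroup ↥N).map N.subtype) = p ^ m := by
      refine Nat.dvd_antisymm ?_ (by rwa [card_map_of_injective N.subtype_injective])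
      obtain ⟨j, hj⟩ := IsPGroup.iff_card.1 (P₁.2.map N.subtype)
      rw [← hm, hj]
      exact P'.pow_dvd_card_of_pow_dvd_card (hj ▸ card_subgroup_dvd_card _)
    obtain ⟨S, hS⟩ : ∃ S : Sylow p K, (S : Subgroup K) = (P₁ : Subgroup ↥N).map N.subtype :=
      ⟨Sylow.ofCard ((P₁ : Subgroup ↥N).map N.subtype)
        (hcardP₁.trans (hm.symm.trans P'.card_eq_multiplicity)), rfl⟩
    have hQN : (Q : Subgroup K) ≤ N := le_normalizer
    have hnilN := hyp N (normalizer_ne_top (hcore q hq) Q.2 hQne)
      (inv_normalizer hQ) ?_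
    · haveI hP₁n := (Group.isNilpotent_of_finite_tfae.out 0 3 rfl rfl).mp hnilN p ⟨hp⟩ P₁
      haveI : ((Q : Subgroup K).subgroupOf N).Normal := normal_in_normalizer
      have hdisj : Disjoint (P₁ : Subgroup ↥N) ((Q : Subgroup K).subgroupOf N) :=
        IsPGroup.disjoint_of_ne p q hqp.symm _ _ P₁.2 (Q.2.comap_subtype)
      obtain ⟨g, hg⟩ := MulAction.exists_smul_eq K S P'
      have hQg : (Q : Subgroup K).map (MulAut.conj g).toMonoidHom ≤
          normalizer ((P' : Subgroup K) : Set K) := by
        refine le_trans ?_ (centralizer_le_normalizer _)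
        rintro _ ⟨y, hy, rfl⟩
        refine mem_centralizer_iff.2 fun z hz => ?_
        rw [← hg, Sylow.coe_subgroup_smul] at hz
        obtain ⟨w, hw, rfl⟩ := hz
        rw [SetLike.mem_coe, hS] at hw
        obtain ⟨⟨w, hwN⟩, hwP, rfl⟩ := hw
        have := commute_of_normal_of_disjoint _ _ hP₁n inferInstance hdisj ⟨w, hwN⟩ ⟨y, hQN hy⟩ hwP hy
        exact (Commute.map (congrArg Subtype.val this.eq : Commute w y) (MulAut.conj g).toMonoidHom).eq
      have h2 := index_dvd_of_le hQg
      exact Q.not_dvd_index (hqd.trans (h2.trans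
        ((Q : Subgroup K).index_map_of_bijective (f := (MulAut.conj g).toMonoidHom)
          (MulAut.conj g).bijective).dvd))
    · rcases Nat.eq_zero_or_pos m with rfl | h0
      · exfalso
        have := P'.dvd_card_of_dvd_card hpK
        rw [hm, pow_zero] at this
        exact hp.not_dvd_one this
      · exact (dvd_pow_self p h0.ne').trans hdvd

end Cfsg.Agent.MaxInv10
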